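import Cfsg.Agent.PQ.Wo.Defs

/-!
# The projections and the action of `O W` (after `PQ.Wl`)
-/

set_option autoImplicit false
set_option linter.unusedSectionVars false

namespace Cfsg.Agent.PQ.Wo

open TensorProduct Module Cfsg.Agent.PQ.Wl
open LinearMap (BilinForm trace)

variable {F : Type} [Field F] {V W : Type} [AddCommGroup V] [Module F V] [AddCommGroup W] [Module F W]
  {ψ : AddChar F ℂ} {ω : BilinForm F V} {Q : QuadraticForm F W} {γ : ℂ}

namespace Osc

variable {S : Type} [AddCommGroup S] [Module ℂ S] (O : Osc ψ ω Q γ S) {E : Submodule F V} (hE : ItV ω E)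
  {x : V ⊗[F] W}

theorem tr_e_av (s : V ⊗[F] W → End ℂ S) (Y : Submodule F (V ⊗[F] W)) (a : End ℂ S) [Fintype Y] :
    trace ℂ S (a * av s Y) = (Nat.card Y : ℂ)⁻¹ * ∑ y : Y, trace ℂ S (a * s y) := by
  rw [av_eq, mul_smul_comm, map_smul, Finset.mul_sum, map_sum, smul_eq_mul]

section pV
include hE

theorem e_pV (hx : x ∈ tp E ⊤) : O.e x * O.pV E = O.pV E :=
  have := O.cx.fX
  s_mul_av (fun _ hx _ hy => O.e_add hE hx hy) hx

theorem pV_e (hx : x ∈ tp E ⊤) : O.pV E * O.e x = O.pV E :=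
  have := O.cx.fX
  av_mul_s (fun _ hx _ hy => O.e_add hE hx hy) hx

theorem pV_pV : O.pV E * O.pV E = O.pV E :=
  have := O.cx.fX
  av_mul_av fun _ hx _ hy => O.e_add hE hx hy

omit hE in
theorem e_comm_pV (hx : x ∈ tp (ω.orthogonal E) ⊤) : O.e x * O.pV E = O.pV E * O.e x :=
  have := O.cx.fX
  mul_av (Equiv.refl _) fun y => by
    rw [O.e_add (fun v hv v' hv' => by rw [O.cx.skew, hv v' hv', neg_zero]) hx y.2, add_comm,
      ← O.e_add (E' := ω.orthogonal E) (fun v hv v' hv' => hv' v hv) y.2 hx]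
    rfl

theorem pV_e_pV (hx : x ∉ tp (ω.orthogonal E) ⊤) : O.pV E * O.e x * O.pV E = 0 := by
  obtain ⟨v, h1⟩ := not_forall.1 fun h => hx (O.cx.mem_left h)
  obtain ⟨hv, h1⟩ := Classical.not_imp.1 h1
  obtain ⟨w, hw⟩ := not_forall.1 fun h => h1 (O.cx.ndW _ h)
  obtain ⟨t, ht⟩ := O.cx.exists_c hw
  have h2 : O.pV E * O.e x * O.pV E = ψ (t * Q.polarBilin (cl (ω v) x) w) • (O.pV E * O.e x * O.pV E) := by
    have h3 := tmul_mem (T := (⊤ : Submodule F W)) hv (Submodule.mem_top (x := t • w))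
    calc _ = O.pV E * (O.e (v ⊗ₜ (t • w)) * O.e x) * O.pV E := by rw [← mul_assoc, O.pV_e hE h3]
      _ = _ := by
        rw [O.e_comm, mul_smul_comm, smul_mul_assoc, mul_assoc, mul_assoc, O.e_pV hE h3, ← mul_assoc,
          tm_left, map_smul, LinearMap.smul_apply, QuadraticMap.polarBilin_apply_apply, QuadraticMap.polar_comm]
        rfl
  rw [← sub_eq_zero, ← one_smul ℂ (O.pV E * O.e x * O.pV E), smul_smul, ← sub_smul, mul_one] at h2
  exact (smul_eq_zero.1 h2).resolve_left (sub_ne_zero.2 ht.symm)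

omit hE in
theorem tr_e_pV (hx : x ∉ tp E ⊤) : trace ℂ S (O.e x * O.pV E) = 0 := by
  have := O.cx.fX
  have := Fintype.ofFinite (tp E (⊤ : Submodule F W))
  rw [pV, tr_e_av, Finset.sum_eq_zero fun y _ => ?_, mul_zero]
  rw [O.e_mul, map_smul, O.tr_e _ fun h => hx ?_, smul_zero]
  rw [eq_neg_of_add_eq_zero_left h]
  exact neg_mem y.2

omit hE in
theorem tr_pV (E : Submodule F V) : trace ℂ S (O.pV E) * γ ^ (2 * finrank F E) = γ ^ finrank F V := by
  have := O.cx.fX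
  have := Fintype.ofFinite (tp E (⊤ : Submodule F W))
  rw [← one_mul (O.pV E), pV, tr_e_av, Finset.sum_eq_single 0 (fun y _ hy => by
    rw [one_mul, O.tr_e _ fun h => hy (Subtype.ext h)]) (by simp), one_mul, Submodule.coe_zero, O.e_zero, O.tr_one,
    O.cx.card_tp_top, mul_right_comm, inv_mul_cancel₀ (pow_ne_zero _ O.cx.γ_ne), one_mul]

omit hE in
theorem tr_pV_ne (E : Submodule F V) : trace ℂ S (O.pV E) ≠ 0 := fun h =>
  pow_ne_zero _ O.cx.γ_ne (by rw [← O.tr_pV E, h, zero_mul])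

omit hE in
theorem tr_pL {L : Submodule F V} (hL : ω.orthogonal L = L) : trace ℂ S (O.pV L) = 1 :=
  mul_right_cancel₀ (pow_ne_zero (finrank F V) O.cx.γ_ne) (by rw [one_mul, ← O.cx.dim_lag hL, O.tr_pV, O.cx.dim_lag hL])

/-- **Schur's lemma on the image of `pV E`** -/
theorem schur_pV {a : End ℂ S} (h1 : O.pV E * a = a) (h2 : a * O.pV E = a)
    (h : ∀ x ∈ tp (ω.orthogonal E) ⊤, a * O.e x = O.e x * a) : a = (trace ℂ S a / trace ℂ S (O.pV E)) • O.pV E := by
  classical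
  have := O.cx.fX
  have := O.fin
  have := Fintype.ofFinite (V ⊗[F] W)
  have h3 := congrArg (fun b => O.pV E * b) (O.sum_conj a)
  simp only [finsum_eq_sum_of_fintype, Finset.mul_sum, mul_smul_comm, mul_one] at h3
  rw [Finset.sum_congr rfl (g := fun x => if x ∈ tp (ω.orthogonal E) ⊤ then a else 0) fun x _ => by
    split_ifs with hx
    · rw [← h x hx, mul_assoc, e_ei, mul_one, h1]
    · rw [← h1, ← mul_assoc, ← mul_assoc, ← mul_assoc, O.pV_e_pV hE hx, zero_mul, zero_mul],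
    ← Finset.sum_filter, Finset.sum_const, ← Nat.cast_smul_eq_nsmul ℂ] at h3
  have h4 : ∃ t : ℂ, a = t • O.pV E := ⟨_, ((inv_smul_eq_iff₀ (Nat.cast_ne_zero.2 (Finset.card_pos.2
    ⟨0, by simp⟩).ne')).2 h3.symm).symm.trans (smul_smul _ _ _)⟩
  obtain ⟨t, rfl⟩ := h4
  rw [map_smul, smul_eq_mul, mul_div_cancel_right₀ _ (O.tr_pV_ne E)]

omit hE in
/-- rank one -/
theorem pL_mul_pL {L : Submodule F V} (hL : ω.orthogonal L = L) (a : End ℂ S) :
    O.pV L * a * O.pV L = trace ℂ S (a * O.pV L) • O.pV L := by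
  have := O.fin
  have h0 := itV_of_lag hL
  rw [O.schur_pV h0 (a := O.pV L * a * O.pV L) (by rw [← mul_assoc, ← mul_assoc, O.pV_pV h0])
    (by rw [mul_assoc, O.pV_pV h0]) fun x hx => by
      rw [hL] at hx
      rw [mul_assoc, O.pV_e h0 hx, ← mul_assoc, ← mul_assoc, O.e_pV h0 hx], O.tr_pL hL, div_one,
    mul_assoc, LinearMap.trace_mul_comm, mul_assoc, O.pV_pV h0]

end pV

/-- the inverse of `tau x` -/
noncomputable def ti (x : V ⊗[F] W) : End ℂ S := ψ (O.κ x x) • O.ei x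

theorem tau_ti (x : V ⊗[F] W) : O.tau x * O.ti x = 1 := by
  rw [tau, ti, smul_mul_smul_comm, ← AddChar.map_add_eq_mul, neg_add_cancel, AddChar.map_zero_eq_one, one_smul, e_ei]

theorem ti_tau (x : V ⊗[F] W) : O.ti x * O.tau x = 1 := by
  rw [tau, ti, smul_mul_smul_comm, ← AddChar.map_add_eq_mul, add_neg_cancel, AddChar.map_zero_eq_one, one_smul, ei_e]

theorem tau_conj (x : V ⊗[F] W) (a : End ℂ S) : O.tau x * a * O.ti x = O.e x * a * O.ei x := by
  rw [tau, ti, smul_mul_assoc, smul_mul_smul_comm, ← AddChar.map_add_eq_mul, neg_add_cancel, AddChar.map_zero_eq_one,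
    one_smul]

theorem ti_add (x y : V ⊗[F] W) : O.ti (x + y) = ψ (tm O.ω₀ Q.polarBilin x y) • (O.ti y * O.ti x) := by
  rw [← mul_one (O.ti (x + y)), ← O.tau_ti x, ← mul_one (O.tau x), ← O.tau_ti y, ← mul_assoc (O.tau x), O.tau_mul,
    smul_mul_assoc, smul_mul_assoc, mul_smul_comm, ← mul_assoc, ← mul_assoc, ti_tau, one_mul]

theorem ti_tau' (x y : V ⊗[F] W) : ∃ t : ℂ, O.ti x * O.tau y = t • O.e (y - x) :=
  ⟨_, by rw [ti, ei, tau, smul_smul, smul_mul_smul_comm, O.e_mul, smul_smul, neg_add_eq_sub]⟩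

variable {h h' : W ≃ₗ[F] W}

theorem κ_ac (hh : IsW Q h) (hE : ItV ω E) (hx : x ∈ tp E ⊤) : O.κ (ac 1 h x) (ac 1 h x) = O.κ x x := by
  obtain ⟨a, ha⟩ : ∃ a : BilinForm F (V ⊗[F] W), ∀ y z, a y z = O.κ (ac 1 h y) (ac 1 h z) - O.κ y z :=
    ⟨O.κ.compl₁₂ (ac 1 h).toLinearMap (ac 1 h).toLinearMap - O.κ, fun _ _ => rfl⟩
  have h0 : ∀ v w v' w', a (v ⊗ₜ w) (v' ⊗ₜ w') = O.ω₀ v' v * (O.b (h w) (h w') - O.b w w') := fun v w v' w' => by
    rw [ha, ac_tmul, ac_tmul, κ, tm_tmul, tm_tmul, mul_sub]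
    rfl
  refine sub_eq_zero.1 ((ha x x).symm.trans (bil_alt (fun v _ w _ => ?_) (fun v hv w _ v' hv' w' _ => ?_) hx))
  · rw [h0, O.hb, O.hb, hh w, sub_self, mul_zero]
  · have h1 := (O.hω v v').symm.trans (hE v hv v' hv')
    have h2 := (O.hb' _ _).symm.trans ((hh.polar w w').trans (O.hb' _ _))
    rw [h0, h0]
    linear_combination (O.b (h w') (h w) - O.b w' w) * h1 + O.ω₀ v' v * h2

/-- intertwiners for `h` -/
def IC (h : W ≃ₗ[F] W) (a : End ℂ S) : Prop := ∀ x, a * O.tau x = O.tau (ac 1 h x) * a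

variable {O} in
theorem IC.e {a : End ℂ S} (H : O.IC h a) (hh : IsW Q h) (hE : ItV ω E) (hx : x ∈ tp E ⊤) :
    a * O.e x = O.e (ac 1 h x) * a := by
  rw [e_eq, e_eq, mul_smul_comm, smul_mul_assoc, H, O.κ_ac hh hE hx]

variable {O} in
theorem IC.pV {a : End ℂ S} (H : O.IC h a) (hh : IsW Q h) (hE : ItV ω E) : a * O.pV E = O.pV E * a :=
  have := O.cx.fX
  mul_av (rs (ac 1 h) fun _ hy => ac_mem (fun _ hv => hv) (fun _ _ => Submodule.mem_top) hy) fun y => H.e hh hE y.2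

variable {O} in
theorem IC.mul {a a' : End ℂ S} (H : O.IC h a) (H' : O.IC h' a') : O.IC (h * h') (a * a') := fun x => by
  rw [mul_assoc, H', ← mul_assoc, H, mul_assoc, ← ac_mul, mul_one]

variable {O} in
theorem IC.schur {a : End ℂ S} (H : O.IC 1 a) : ∃ t : ℂ, a = t • 1 :=
  ⟨_, O.schur fun x => by rw [e_eq, mul_smul_comm, smul_mul_assoc, H, ac_one]⟩

open Classical in
theorem val_eq {L : Submodule F V} (hL : ω.orthogonal L = L) (hh : IsW Q h) (y : V ⊗[F] W) :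
    trace ℂ S (O.ti y * O.tau (ac 1 h y) * O.pV L) = if y ∈ tp L ⊤ ⊔ tp ⊤ (fx h) then 1 else 0 := by
  have := O.cx.fdV
  have h0 := itV_of_lag hL
  split_ifs with h1
  · obtain ⟨l, hl, y, hy, rfl⟩ := Submodule.mem_sup.1 h1
    have h2 : ac 1 h y = y := map_fix (fun _ _ => rfl) (fun _ hw => mem_fx.1 hw) hy
    have h3 : O.tau (y + ac 1 h l) = ψ (-tm O.ω₀ Q.polarBilin y l) • (O.tau y * O.tau (ac 1 h l)) := by
      rw [O.tau_mul, smul_smul, ← tm_ac (g := 1) (fun _ _ => rfl) hh.polar y l, h2, ← AddChar.map_add_eq_mul,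
        neg_add_cancel, AddChar.map_zero_eq_one, one_smul]
    rw [add_comm, map_add, h2, ti_add, h3, smul_mul_smul_comm, ← AddChar.map_add_eq_mul, add_neg_cancel,
      AddChar.map_zero_eq_one, one_smul, mul_assoc (O.ti l), ← mul_assoc (O.ti y), ti_tau, one_mul, mul_assoc, tau,
      smul_mul_assoc, O.e_pV h0 (ac_mem (fun _ hv => hv) (fun _ _ => Submodule.mem_top) hl), O.κ_ac hh h0 hl,
      ← O.e_pV h0 hl, ← smul_mul_assoc, ← tau, ← mul_assoc, ti_tau, one_mul, O.tr_pL hL]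
  · obtain ⟨t, ht⟩ := O.ti_tau' y (ac 1 h y)
    rw [ht, smul_mul_assoc, map_smul, O.tr_e_pV fun h2 => h1 ?_, smul_zero]
    obtain ⟨π, h3, h4⟩ := exists_proj L
    rw [← add_sub_cancel (TensorProduct.map π LinearMap.id y) y]
    refine Submodule.add_mem_sup (map_mem (E := ⊤) (T := ⊤) (fun v _ => h3 v) (fun _ _ => Submodule.mem_top)
      (tp_top (F := F) (V := V) (W := W) ▸ Submodule.mem_top)) (mem_tp_right fun φ => mem_fx.2 ?_)
    have h5 := map_fix (f' := LinearMap.id) h4 (fun _ _ => rfl) h2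
    have h6 : TensorProduct.map π LinearMap.id (ac 1 h y) = ac 1 h (TensorProduct.map π LinearMap.id y) :=
      LinearMap.congr_fun (TensorProduct.ext' (g := TensorProduct.map π LinearMap.id ∘ₗ (ac 1 h).toLinearMap)
        (h := (ac 1 h).toLinearMap ∘ₗ TensorProduct.map π LinearMap.id) fun _ _ => rfl) y
    rw [map_sub, h6] at h5
    refine (cl_ac φ 1 h _).symm.trans (congrArg _ ?_)
    rw [map_sub, sub_eq_sub_iff_sub_eq_sub, h5]

/-- the trace of `C h` -/
noncomputable def cW (F V : Type) [Field F] [AddCommGroup V] [Module F V] {W : Type} [AddCommGroup W] [Module F W]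
    (h : W ≃ₗ[F] W) : ℂ := (Nat.card (fx h) : ℂ) ^ (finrank F V / 2)

theorem sum_val {L : Submodule F V} (hL : ω.orthogonal L = L) (hh : IsW Q h) :
    ∑ᶠ y, trace ℂ S (O.ti y * O.tau (ac 1 h y) * O.pV L) = γ ^ finrank F V * cW F V h := by
  classical
  have c := O.cx
  have := c.fX
  have := c.fW
  have := Fintype.ofFinite (V ⊗[F] W)
  have h1 := card_sup (tp L (⊤ : Submodule F W)) (tp ⊤ (fx h))
  rw [show tp L (⊤ : Submodule F W) ⊓ tp ⊤ (fx h) = tp L (fx h) from le_antisymm (fun _ hx => mem_tp_inf hx.1 hx.2)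
    (le_inf (tp_mono le_rfl le_top) (tp_mono le_top le_rfl)), c.card_tp L (fx h), c.card_tp ⊤ (fx h), finrank_top,
    ← c.dim_lag hL, two_mul, pow_add, ← mul_assoc, mul_left_inj' (pow_ne_zero _ Nat.card_pos.ne')] at h1
  simp only [O.val_eq hL hh, finsum_eq_sum_of_fintype, Finset.sum_boole]
  rw [← Fintype.card_subtype, ← Nat.card_eq_fintype_card, h1, Nat.cast_mul, c.card_tp_top, c.dim_lag hL, cW,
    ← c.dim_lag hL, Nat.mul_div_cancel_left _ two_pos, Nat.cast_pow]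

theorem cW_ne (c : Cx ψ ω Q γ) (h : W ≃ₗ[F] W) : cW F V h ≠ 0 := have := c.fW; pow_ne_zero _ (card_ne _)

theorem tr_of_ic {L : Submodule F V} (hL : ω.orthogonal L = L) (hh : IsW Q h) {a : End ℂ S} (H : O.IC h a)
    (h1 : a * O.pV L = O.pV L) : trace ℂ S a = cW F V h := by
  have := O.cx.fX
  have := O.fin
  have := Fintype.ofFinite (V ⊗[F] W)
  have h2 := congrArg (fun b => trace ℂ S (a * b)) (O.sum_conj (O.pV L))
  simp only [O.tr_pL hL, mul_one, mul_smul_comm, map_smul, smul_eq_mul, finsum_eq_sum_of_fintype, Finset.mul_sum, map_sum,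
    ← tau_conj] at h2
  refine mul_left_cancel₀ (pow_ne_zero (finrank F V) O.cx.γ_ne) (h2.symm.trans ?_)
  rw [← O.sum_val hL hh, finsum_eq_sum_of_fintype]
  exact Finset.sum_congr rfl fun y _ => by
    rw [← mul_assoc, ← mul_assoc, H, mul_assoc _ a, h1, LinearMap.trace_mul_comm, mul_assoc]

theorem exists_ic {L : Submodule F V} (hL : ω.orthogonal L = L) (hh : IsW Q h) :
    ∃ a, O.IC h a ∧ a * O.pV L = O.pV L := by
  have := O.cx.fX
  have := Fintype.ofFinite (V ⊗[F] W)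
  have h0 := itV_of_lag hL
  have H : O.IC h (∑ y, O.ti (ac 1 h y) * O.tau y) := fun z => by
    rw [Finset.sum_mul, Finset.mul_sum, ← Equiv.sum_comp (Equiv.addRight z) fun y => O.tau _ * _]
    refine Finset.sum_congr rfl fun y _ => ?_
    rw [Equiv.coe_addRight, map_add, ti_add, tm_ac (g := 1) (fun _ _ => rfl) hh.polar, smul_mul_assoc, mul_smul_comm,
      ← mul_assoc, ← mul_assoc, tau_ti, one_mul, mul_assoc, O.tau_mul, mul_smul_comm]
  have h1 := O.pL_mul_pL hL (∑ y, O.ti (ac 1 h y) * O.tau y)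
  rw [← H.pV hh h0, mul_assoc, O.pV_pV h0] at h1
  have h2 : trace ℂ S ((∑ y, O.ti (ac 1 h y) * O.tau y) * O.pV L) = γ ^ finrank F V * cW F V h⁻¹ := by
    rw [← O.sum_val hL hh.inv, finsum_eq_sum_of_fintype, Finset.sum_mul, map_sum,
      ← Equiv.sum_comp (ac 1 h).toEquiv fun y => trace ℂ S (O.ti y * O.tau (ac 1 h⁻¹ y) * O.pV L)]
    exact Finset.sum_congr rfl fun y _ => by
      rw [LinearEquiv.coe_toEquiv, ← ac_mul, inv_mul_cancel, mul_one, ac_one]
  have h3 := mul_ne_zero (pow_ne_zero (finrank F V) O.cx.γ_ne) (cW_ne O.cx h⁻¹)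
  rw [h2] at h1
  exact ⟨(γ ^ finrank F V * cW F V h⁻¹)⁻¹ • ∑ y, O.ti (ac 1 h y) * O.tau y,
    fun x => by rw [smul_mul_assoc, H, mul_smul_comm], by rw [smul_mul_assoc, h1, inv_smul_smul₀ h3]⟩

theorem exists_C (hh : IsW Q h) : ∃ a, O.IC h a ∧ trace ℂ S a = cW F V h := by
  obtain ⟨L, -, hL⟩ := O.cx.exists_lag (E := ⊥) fun v hv _ _ => by rw [(Submodule.mem_bot F).1 hv, LinearMap.map_zero₂]
  obtain ⟨a, h1, h2⟩ := O.exists_ic hL hh
  exact ⟨a, h1, O.tr_of_ic hL hh h1 h2⟩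

open Classical in
/-- **the action of `O W`** -/
noncomputable def C (h : W ≃ₗ[F] W) : End ℂ S := if hh : IsW Q h then (O.exists_C hh).choose else 1

theorem C_tau (hh : IsW Q h) : O.IC h (O.C h) := by
  rw [C, dif_pos hh]
  exact (O.exists_C hh).choose_spec.1

theorem tr_C (hh : IsW Q h) : trace ℂ S (O.C h) = cW F V h := by
  rw [C, dif_pos hh]
  exact (O.exists_C hh).choose_spec.2

/-- intertwiners are unique up to a scalar -/
theorem eq_smul_C (hh : IsW Q h) {a : End ℂ S} (H : O.IC h a) : a = (trace ℂ S a / cW F V h) • O.C h := by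
  have := O.fin
  obtain ⟨L, -, hL⟩ := O.cx.exists_lag (E := ⊥) fun v hv _ _ => by rw [(Submodule.mem_bot F).1 hv, LinearMap.map_zero₂]
  obtain ⟨b, h1, h2⟩ := O.exists_ic hL hh
  obtain ⟨b', h3, h4⟩ := O.exists_ic hL hh.inv
  have h5 : ∀ a, O.IC h a → ∃ t : ℂ, b' * a = t • 1 := fun a H => IC.schur (by simpa only [inv_mul_cancel] using h3.mul H)
  obtain ⟨t, ht⟩ := h5 b h1
  have h6 := congrArg (fun a => trace ℂ S (a * O.pV L)) ht
  simp only [mul_assoc, h2, h4, smul_mul_assoc, one_mul, map_smul, O.tr_pL hL, smul_eq_mul, mul_one] at h6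
  rw [← h6, one_smul, mul_eq_one_comm] at ht
  have h7 : ∀ a, O.IC h a → a = (trace ℂ S a / cW F V h) • b := fun a H => by
    obtain ⟨t, h7⟩ := h5 a H
    have h8 : a = t • b := by rw [← one_mul a, ← ht, mul_assoc, h7, mul_smul_comm, mul_one]
    rw [h8, map_smul, O.tr_of_ic hL hh h1 h2, smul_eq_mul, mul_div_cancel_right₀ _ (cW_ne O.cx h)]
  rw [h7 _ (O.C_tau hh), O.tr_C hh, div_self (cW_ne O.cx h), one_smul]
  exact h7 a H

/-- **the characterisation of `C h`** -/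
theorem eq_C (hh : IsW Q h) {a : End ℂ S} (H : O.IC h a) (ht : trace ℂ S a = cW F V h) : a = O.C h := by
  rw [O.eq_smul_C hh H, ht, div_self (cW_ne O.cx h), one_smul]

theorem eq_C' {L : Submodule F V} (hL : ω.orthogonal L = L) (hh : IsW Q h) {a : End ℂ S} (H : O.IC h a)
    (h1 : a * O.pV L = O.pV L) : a = O.C h := O.eq_C hh H (O.tr_of_ic hL hh H h1)

theorem C_pL {L : Submodule F V} (hL : ω.orthogonal L = L) (hh : IsW Q h) : O.C h * O.pV L = O.pV L := by
  obtain ⟨a, h1, h2⟩ := O.exists_ic hL hh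
  rwa [← O.eq_C' hL hh h1 h2]

theorem C_mul (hh : IsW Q h) (hh' : IsW Q h') : O.C (h * h') = O.C h * O.C h' := by
  obtain ⟨L, -, hL⟩ := O.cx.exists_lag (E := ⊥) fun v hv _ _ => by rw [(Submodule.mem_bot F).1 hv, LinearMap.map_zero₂]
  exact (O.eq_C' hL (hh.mul hh') ((O.C_tau hh).mul (O.C_tau hh')) (by rw [mul_assoc, O.C_pL hL hh', O.C_pL hL hh])).symm

theorem C_one : O.C 1 = 1 := by
  obtain ⟨L, -, hL⟩ := O.cx.exists_lag (E := ⊥) fun v hv _ _ => by rw [(Submodule.mem_bot F).1 hv, LinearMap.map_zero₂]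
  exact (O.eq_C' hL (IsW.one Q) (fun x => by rw [ac_one, one_mul, mul_one]) (one_mul _)).symm

theorem C_e (hh : IsW Q h) (hE : ItV ω E) (hx : x ∈ tp E ⊤) : O.C h * O.e x = O.e (ac 1 h x) * O.C h :=
  (O.C_tau hh).e hh hE hx

theorem C_pV (hh : IsW Q h) (hE : ItV ω E) : O.C h * O.pV E = O.pV E * O.C h := (O.C_tau hh).pV hh hE

theorem itV_span (c : Cx ψ ω Q γ) (v : V) : ItV ω (F ∙ v) := fun a ha b hb => by
  obtain ⟨s, rfl⟩ := Submodule.mem_span_singleton.1 ha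
  obtain ⟨t, rfl⟩ := Submodule.mem_span_singleton.1 hb
  simp [c.alt]

theorem C_D (hh : IsW Q h) (v : V) (w : W) : O.C h * O.D v w = O.D v (h w) * O.C h :=
  O.C_e hh (itV_span O.cx v) (tmul_mem (Submodule.mem_span_singleton_self v) Submodule.mem_top)

/-- intertwiners on the pure tensors -/
theorem ic_of_D (hh : IsW Q h) {a : End ℂ S} (H : ∀ v w, a * O.D v w = O.D v (h w) * a) : O.IC h a := fun x => by
  induction x using TensorProduct.induction_on with
  | zero => rw [map_zero, O.tau_zero, mul_one, one_mul]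
  | tmul v w =>
    rw [tau, tau, O.κ_ac hh (itV_span O.cx v) (tmul_mem (Submodule.mem_span_singleton_self v) Submodule.mem_top),
      mul_smul_comm, smul_mul_assoc]
    exact congrArg _ (H v w)
  | add x y hx hy =>
    refine smul_right_injective _ (psi_ne ψ (tm O.ω₀ Q.polarBilin x y)) ?_
    simp only []
    rw [← mul_smul_comm, ← smul_mul_assoc, ← O.tau_mul, ← mul_assoc, hx, mul_assoc, hy, ← mul_assoc, O.tau_mul, map_add,
      tm_ac (g := 1) (fun _ _ => rfl) hh.polar]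

theorem eq_C'' {L : Submodule F V} (hL : ω.orthogonal L = L) (hh : IsW Q h) {a m : End ℂ S} (H : O.IC h a) (h0 : m ≠ 0)
    (h1 : a * m = m) (h2 : ∀ y ∈ tp L ⊤, O.e y * m = m) : a = O.C h := by
  have := O.cx.fX
  have h3 : O.C h * m = m := by rw [← av_mul_of h2, ← pV, ← mul_assoc, O.C_pL hL hh]
  have h4 := O.eq_smul_C hh H
  generalize trace ℂ S a / _ = t at h4
  rw [h4, smul_mul_assoc, h3] at h1
  rw [h4, show t = 1 from smul_left_injective ℂ h0 (h1.trans (one_smul _ _).symm), one_smul]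

end Osc

namespace Osc

variable {S : Type} [AddCommGroup S] [Module ℂ S] (O : Osc ψ ω Q γ S) {T : Submodule F W} (hT : ItW Q T)
  {x : V ⊗[F] W} {g : V ≃ₗ[F] V} {h : W ≃ₗ[F] W}

section pW
include hT

theorem tau_hom (hx : x ∈ tp ⊤ T) {y : V ⊗[F] W} (hy : y ∈ tp ⊤ T) : O.tau x * O.tau y = O.tau (x + y) :=
  O.tau_add (fun _ h _ h' => hT.polar h h') hx hy

theorem tau_pW (hx : x ∈ tp ⊤ T) : O.tau x * O.pW T = O.pW T :=
  have := O.cx.fX
  s_mul_av (fun _ hx _ hy => O.tau_hom hT hx hy) hx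

theorem pW_tau (hx : x ∈ tp ⊤ T) : O.pW T * O.tau x = O.pW T :=
  have := O.cx.fX
  av_mul_s (fun _ hx _ hy => O.tau_hom hT hx hy) hx

theorem pW_pW : O.pW T * O.pW T = O.pW T :=
  have := O.cx.fX
  av_mul_av fun _ hx _ hy => O.tau_hom hT hx hy

omit hT in
theorem tau_comm_pW (hx : x ∈ tp ⊤ (ow Q T)) : O.tau x * O.pW T = O.pW T * O.tau x :=
  have := O.cx.fX
  mul_av (Equiv.refl _) fun y => by
    rw [O.tau_add (T := ow Q T) (fun v hv v' hv' => (pol_comm Q _ _).trans (hv v' hv')) hx y.2, add_comm,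
      ← O.tau_add (T' := ow Q T) (fun v hv v' hv' => hv' v hv) y.2 hx]
    rfl

omit hT in
theorem e_comm_pW (hx : x ∈ tp ⊤ (ow Q T)) : O.e x * O.pW T = O.pW T * O.e x := by
  rw [e_eq, smul_mul_assoc, mul_smul_comm, O.tau_comm_pW hx]

theorem pW_e_pW (hx : x ∉ tp ⊤ (ow Q T)) : O.pW T * O.e x * O.pW T = 0 := by
  obtain ⟨w, h1⟩ := not_forall.1 fun h => hx (O.cx.mem_right h)
  obtain ⟨hw, h1⟩ := Classical.not_imp.1 h1
  obtain ⟨v, hv⟩ := not_forall.1 fun h => h1 (O.cx.ndV _ h)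
  obtain ⟨t, ht⟩ := O.cx.exists_c (neg_ne_zero.2 hv)
  have h2 : O.pW T * O.e x * O.pW T = ψ (t * -ω (cr (Q.polarBilin w) x) v) • (O.pW T * O.e x * O.pW T) := by
    have h3 := tmul_mem (E := (⊤ : Submodule F V)) (Submodule.mem_top (x := t • v)) hw
    have h4 := O.tau_pW hT h3
    have h5 := O.pW_tau hT h3
    rw [O.tau_tmul _ (hT w hw), D] at h4 h5
    calc _ = O.pW T * (O.e ((t • v) ⊗ₜ w) * O.e x) * O.pW T := by rw [← mul_assoc, h5]
      _ = _ := by
        rw [O.e_comm, mul_smul_comm, smul_mul_assoc, mul_assoc, mul_assoc, h4, ← mul_assoc, tm_left', map_smul,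
          LinearMap.smul_apply, O.cx.skew v]
        rfl
  rw [← sub_eq_zero, ← one_smul ℂ (O.pW T * O.e x * O.pW T), smul_smul, ← sub_smul, mul_one] at h2
  exact (smul_eq_zero.1 h2).resolve_left (sub_ne_zero.2 ht.symm)

omit hT in
theorem tr_e_pW (hx : x ∉ tp ⊤ T) : trace ℂ S (O.e x * O.pW T) = 0 := by
  have := O.cx.fX
  have := Fintype.ofFinite (tp (⊤ : Submodule F V) T)
  rw [pW, tr_e_av, Finset.sum_eq_zero fun y _ => ?_, mul_zero]
  rw [tau, mul_smul_comm, O.e_mul, map_smul, map_smul, O.tr_e _ fun h => hx ?_, smul_zero, smul_zero]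
  rw [eq_neg_of_add_eq_zero_left h]
  exact neg_mem y.2

omit hT in
theorem tr_pW (T : Submodule F W) : trace ℂ S (O.pW T) * (Nat.card T : ℂ) ^ finrank F V = γ ^ finrank F V := by
  have := O.cx.fX
  have := O.cx.fW
  have := Fintype.ofFinite (tp (⊤ : Submodule F V) T)
  rw [← one_mul (O.pW T), pW, tr_e_av, Finset.sum_eq_single 0 (fun y _ hy => by
    rw [one_mul, O.tr_tau fun h => hy (Subtype.ext h)]) (by simp), one_mul, Submodule.coe_zero, O.tau_zero, O.tr_one,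
    O.cx.card_tp, finrank_top, Nat.cast_pow, mul_right_comm, inv_mul_cancel₀ (pow_ne_zero _ (card_ne T)), one_mul]

omit hT in
theorem tr_pW_ne (T : Submodule F W) : trace ℂ S (O.pW T) ≠ 0 := fun h =>
  pow_ne_zero _ O.cx.γ_ne (by rw [← O.tr_pW T, h, zero_mul])

/-- **Schur's lemma on the image of `pW T`** -/
theorem schur_pW {a : End ℂ S} (h1 : O.pW T * a = a) (h2 : a * O.pW T = a)
    (h : ∀ x ∈ tp ⊤ (ow Q T), a * O.e x = O.e x * a) : a = (trace ℂ S a / trace ℂ S (O.pW T)) • O.pW T := by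
  classical
  have := O.cx.fX
  have := O.fin
  have := Fintype.ofFinite (V ⊗[F] W)
  have h3 := congrArg (fun b => O.pW T * b) (O.sum_conj a)
  simp only [finsum_eq_sum_of_fintype, Finset.mul_sum, mul_smul_comm, mul_one] at h3
  rw [Finset.sum_congr rfl (g := fun x => if x ∈ tp ⊤ (ow Q T) then a else 0) fun x _ => by
    split_ifs with hx
    · rw [← h x hx, mul_assoc, e_ei, mul_one, h1]
    · rw [← h1, ← mul_assoc, ← mul_assoc, ← mul_assoc, O.pW_e_pW hT hx, zero_mul, zero_mul],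
    ← Finset.sum_filter, Finset.sum_const, ← Nat.cast_smul_eq_nsmul ℂ] at h3
  have h4 : ∃ t : ℂ, a = t • O.pW T := ⟨_, ((inv_smul_eq_iff₀ (Nat.cast_ne_zero.2 (Finset.card_pos.2
    ⟨0, by simp⟩).ne')).2 h3.symm).symm.trans (smul_smul _ _ _)⟩
  obtain ⟨t, rfl⟩ := h4
  rw [map_smul, smul_eq_mul, mul_div_cancel_right₀ _ (O.tr_pW_ne T)]

omit hT in
theorem C_pW (hh : IsW Q h) (H : ∀ w ∈ T, h w ∈ T) : O.C h * O.pW T = O.pW T * O.C h :=
  have := O.cx.fX
  mul_av (rs (ac 1 h) fun _ hy => ac_mem (fun _ hv => hv) H hy) fun y => O.C_tau hh y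

omit hT in
theorem C_pW_map (hh : IsW Q h) (T : Submodule F W) : O.C h * O.pW T = O.pW (T.map h.toLinearMap) * O.C h :=
  have := O.cx.fX
  mul_av ⟨fun y => ⟨ac 1 h y, ac_mem (fun _ hv => hv) (fun _ hw => Submodule.mem_map_of_mem hw) y.2⟩,
    fun y => ⟨ac 1 h⁻¹ y, ac_mem (fun _ hv => hv) (by rintro _ ⟨v, hv, rfl⟩; exact (h.symm_apply_apply v).symm ▸ hv) y.2⟩,
    fun y => Subtype.ext (by simp only [← ac_mul, inv_mul_cancel, mul_one, ac_one]),
    fun y => Subtype.ext (by simp only [← ac_mul, mul_inv_cancel, mul_one, ac_one])⟩ fun y => O.C_tau hh y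

theorem pW_pL_ne {L : Submodule F V} (hL : ω.orthogonal L = L) : O.pW T * O.pV L ≠ 0 := fun h0 => by
  classical
  have := O.fin
  have := O.cx.fX
  have := Fintype.ofFinite (V ⊗[F] W)
  have h1 := congrArg (trace ℂ S) h0
  rw [LinearMap.trace_mul_comm, pW, tr_e_av, Finset.sum_congr rfl (g := fun y => if y.1 ∈ tp L ⊤ then 1 else 0) fun y _ => by
    split_ifs with h2
    · rw [O.tau_eq_e (itV_of_lag hL) hT (mem_tp_inf h2 y.2), O.pV_e (itV_of_lag hL) h2, O.tr_pL hL]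
    · rw [tau, mul_smul_comm, map_smul, LinearMap.trace_mul_comm, O.tr_e_pV h2, smul_zero], Finset.sum_boole, map_zero] at h1
  exact mul_ne_zero (inv_ne_zero (card_ne _)) (Nat.cast_ne_zero.2 (Finset.card_pos.2 ⟨0, by simp⟩).ne') h1

/-- the elements which act trivially on `T^⊥ / T` fix the image of `pW T` -/
theorem C_pW_eq (hh : IsW Q h) (H : ∀ w ∈ ow Q T, h w - w ∈ T) : O.C h * O.pW T = O.pW T := by
  have h1 : ∀ w ∈ T, h w ∈ T := fun w hw => by simpa using add_mem (H w (hT.le hw)) hw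
  obtain ⟨L, -, hL⟩ := O.cx.exists_lag (E := ⊥) fun v hv _ _ => by rw [(Submodule.mem_bot F).1 hv, LinearMap.map_zero₂]
  have h2 := O.schur_pW hT (a := O.C h * O.pW T) (by rw [← mul_assoc, ← O.C_pW hh h1, mul_assoc, O.pW_pW hT])
    (by rw [mul_assoc, O.pW_pW hT]) fun x hx => by
      have h3 : ac 1 h x - x ∈ tp ⊤ T := tp_ind (P := fun x => ac 1 h x - x ∈ tp ⊤ T) (by simp)
        (fun v _ w hw => by
          rw [ac_tmul, LinearEquiv.coe_one, id, ← tmul_sub]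
          exact tmul_mem Submodule.mem_top (H w hw))
        (fun x _ y _ h3 h4 => by rw [map_add, add_sub_add_comm]; exact add_mem h3 h4) hx
      rw [e_eq, mul_smul_comm, smul_mul_assoc, mul_assoc, ← O.tau_comm_pW hx, ← mul_assoc, O.C_tau hh, mul_assoc,
        O.C_pW hh h1, ← mul_assoc, ← mul_assoc, ← add_sub_cancel x (ac 1 h x), ← O.tau_add (T := ow Q T)
          (fun v hv v' hv' => (pol_comm Q _ _).trans (hv v' hv')) hx h3, mul_assoc (O.tau x), O.tau_pW hT h3]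
  generalize trace ℂ S _ / _ = t at h2
  have h3 := congrArg (· * O.pV L) h2
  simp only [O.C_pW hh h1, mul_assoc, O.C_pL hL hh, smul_mul_assoc] at h3
  rw [h2, show t = 1 from smul_left_injective ℂ (O.pW_pL_ne hT hL) (h3.symm.trans (one_smul _ _).symm), one_smul]

end pW

end Osc


end Cfsg.Agent.PQ.Wo
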