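import Cfsg.Agent.PQ.Wl.Red

/-!
# The Weil representation of a pair `(Sp V, O W)`, `q` odd, `dim W` arbitrary : definitions (after `PQ.Wl`)
-/

set_option autoImplicit false
set_option linter.unusedSectionVars false

namespace Cfsg.Agent.PQ.Wo

open TensorProduct Module Cfsg.Agent.PQ.Wl
open LinearMap (BilinForm trace)

variable {F : Type} [Field F] {V W : Type} [AddCommGroup V] [Module F V] [AddCommGroup W] [Module F W]

/-- the setting -/
structure Cx (ψ : AddChar F ℂ) (ω : BilinForm F V) (Q : QuadraticForm F W) (γ : ℂ) : Prop where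
  fF : Finite F
  fV : Finite V
  fW : Finite W
  ψne : ψ ≠ 1
  alt : ∀ v, ω v v = 0
  ndV : ∀ v, (∀ v', ω v v' = 0) → v = 0
  ndW : ∀ w, (∀ w', Q.polarBilin w w' = 0) → w = 0
  two : (2 : F) ≠ 0
  sq : γ ^ 2 = Nat.card W

/-- an irreducible module of the Heisenberg group -/
structure Osc (ψ : AddChar F ℂ) (ω : BilinForm F V) (Q : QuadraticForm F W) (γ : ℂ) (S : Type) [AddCommGroup S]
    [Module ℂ S] where
  cx : Cx ψ ω Q γ
  fin : FiniteDimensional ℂ S
  /-- half of `ω` -/
  ω₀ : BilinForm F V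
  hω : ∀ v v', ω v v' = ω₀ v v' - ω₀ v' v
  /-- half of the polar form -/
  b : BilinForm F W
  hb : ∀ w, b w w = Q w
  /-- the section which is invariant under `Sp V` -/
  e : V ⊗[F] W → End ℂ S
  e_mul : ∀ x y, e x * e y = ψ (tm ω b x y) • e (x + y)
  e_zero : e 0 = 1
  tr_e : ∀ x, x ≠ 0 → trace ℂ S (e x) = 0
  dim : (finrank ℂ S : ℂ) = γ ^ finrank F V

variable {ψ : AddChar F ℂ} {ω : BilinForm F V} {Q : QuadraticForm F W} {γ : ℂ}

namespace Cx

variable (c : Cx ψ ω Q γ)
include c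

theorem fdV : FiniteDimensional F V := have := c.fV; Module.Finite.of_finite

theorem fdW : FiniteDimensional F W := have := c.fW; Module.Finite.of_finite

theorem fX : Finite (V ⊗[F] W) := have := c.fF; have := c.fdV; have := c.fdW; Module.finite_of_finite F

theorem skew (v v' : V) : ω v v' = -ω v' v := by
  have h := c.alt (v + v')
  simp only [map_add, LinearMap.add_apply, c.alt] at h
  linear_combination h

theorem γ_ne : γ ≠ 0 := fun h => have := c.fW; card_ne W (by rw [← c.sq, h, zero_pow two_ne_zero])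

theorem exists_c {a : F} (ha : a ≠ 0) : ∃ t, ψ (t * a) ≠ 1 := by
  obtain ⟨t, ht⟩ := AddChar.ne_one_iff.1 c.ψne
  exact ⟨t / a, by rwa [div_mul_cancel₀ _ ha]⟩

theorem dualV (φ : V →ₗ[F] F) : ∃ v, ω v = φ :=
  have := c.fdV
  ((LinearMap.injective_iff_surjective_of_finrank_eq_finrank (f := ω) Subspace.dual_finrank_eq.symm).1
    ((injective_iff_map_eq_zero _).2 fun v h => c.ndV v (LinearMap.congr_fun h))) φ

theorem dualW (φ : W →ₗ[F] F) : ∃ w, Q.polarBilin w = φ :=
  have := c.fdW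
  ((LinearMap.injective_iff_surjective_of_finrank_eq_finrank (f := Q.polarBilin) Subspace.dual_finrank_eq.symm).1
    ((injective_iff_map_eq_zero _).2 fun w h => c.ndW w (LinearMap.congr_fun h))) φ

/-- the orthogonal of `E ⊗ W` -/
theorem mem_left {E : Submodule F V} {x : V ⊗[F] W} (h : ∀ v ∈ E, cl (ω v) x = 0) : x ∈ tp (ω.orthogonal E) ⊤ :=
  have := c.fdW
  mem_tp_left fun φ v hv => by
    obtain ⟨w, rfl⟩ := c.dualW φ
    rw [← tm_left', tm_left, h v hv, map_zero]

/-- the orthogonal of `V ⊗ T` -/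
theorem mem_right {T : Submodule F W} {x : V ⊗[F] W} (h : ∀ w ∈ T, cr (Q.polarBilin w) x = 0) :
    x ∈ tp ⊤ (LinearMap.BilinForm.orthogonal Q.polarBilin T) :=
  have := c.fdV
  mem_tp_right fun φ w hw => by
    obtain ⟨v, rfl⟩ := c.dualV φ
    rw [← tm_left, tm_left', h w hw, map_zero]

theorem nd {x : V ⊗[F] W} (hx : x ≠ 0) : ∃ y, ψ (tm ω Q.polarBilin y x) ≠ 1 := by
  have := c.fdV
  by_contra h
  refine hx ((Submodule.mem_bot F).1 (tp_le (E := ⊤) (T := ⊥) (fun v _ w hw => ?_) (mem_tp_right fun φ => ?_)))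
  · rw [(Submodule.mem_bot F).1 hw, tmul_zero]
    exact zero_mem _
  · obtain ⟨v, rfl⟩ := c.dualV φ
    refine c.ndW _ fun w => by_contra fun h1 => ?_
    obtain ⟨t, ht⟩ := c.exists_c h1
    refine h ⟨v ⊗ₜ (t • w), ?_⟩
    rwa [tm_left, map_smul, LinearMap.smul_apply, QuadraticMap.polarBilin_apply_apply, QuadraticMap.polar_comm]

theorem card_tp (E : Submodule F V) (T : Submodule F W) : Nat.card (tp E T) = Nat.card T ^ finrank F E := by
  have := c.fdV
  have := c.fdW
  rw [Module.natCard_eq_pow_finrank (K := F), finrank_tp, Module.natCard_eq_pow_finrank (K := F) (V := T), ← pow_mul,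
    mul_comm]

theorem card_tp_top (E : Submodule F V) : (Nat.card (tp E (⊤ : Submodule F W)) : ℂ) = γ ^ (2 * finrank F E) := by
  rw [c.card_tp, pow_mul, c.sq, Nat.card_congr Submodule.topEquiv.toEquiv, Nat.cast_pow]

theorem card_X : (Nat.card (V ⊗[F] W) : ℂ) = γ ^ (2 * finrank F V) := by
  rw [← finrank_top F V, ← c.card_tp_top, tp_top, Nat.card_congr Submodule.topEquiv.toEquiv]

theorem dim_orth (E : Submodule F V) : finrank F E + finrank F (ω.orthogonal E) = finrank F V := by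
  have := c.fdV
  rw [LinearMap.BilinForm.finrank_add_finrank_orthogonal', LinearMap.ker_eq_bot'.2 fun v h => c.ndV v
    (LinearMap.congr_fun h), inf_bot_eq, finrank_bot, add_zero]

theorem dim_orthW (T : Submodule F W) :
    finrank F T + finrank F (LinearMap.BilinForm.orthogonal Q.polarBilin T) = finrank F W := by
  have := c.fdW
  rw [LinearMap.BilinForm.finrank_add_finrank_orthogonal', LinearMap.ker_eq_bot'.2 fun v h => c.ndW v
    (LinearMap.congr_fun h), inf_bot_eq, finrank_bot, add_zero]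

theorem dim_lag {L : Submodule F V} (hL : ω.orthogonal L = L) : 2 * finrank F L = finrank F V := by
  rw [← c.dim_orth L, hL, two_mul]

/-- Lagrangian subspaces -/
theorem exists_lag {E : Submodule F V} (hE : ItV ω E) : ∃ L, E ≤ L ∧ ω.orthogonal L = L := by
  have := c.fdV
  obtain ⟨L, ⟨h1, h2⟩, h3⟩ := set_has_maximal_iff_noetherian.2 (inferInstance : IsNoetherian F V)
    {L | E ≤ L ∧ ItV ω L} ⟨E, le_rfl, hE⟩
  refine ⟨L, h1, le_antisymm (fun v hv => by_contra fun h4 => h3 (L ⊔ F ∙ v) ⟨h1.trans le_sup_left, fun x hx y hy => ?_⟩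
    (Submodule.lt_sup_iff_notMem.2 h4)) fun v hv w hw => h2 w hw v hv⟩
  obtain ⟨a, ha, _, h5, rfl⟩ := Submodule.mem_sup.1 hx
  obtain ⟨a', ha', _, h6, rfl⟩ := Submodule.mem_sup.1 hy
  obtain ⟨s, rfl⟩ := Submodule.mem_span_singleton.1 h5
  obtain ⟨t, rfl⟩ := Submodule.mem_span_singleton.1 h6
  simp [h2 a ha a' ha', hv a ha, c.skew v a', hv a' ha', c.alt]

theorem pw : γ ^ finrank F V = (Nat.card W : ℂ) ^ (finrank F V / 2) := by
  obtain ⟨L, -, hL⟩ := c.exists_lag (E := ⊥) fun v hv _ _ => by rw [(Submodule.mem_bot F).1 hv, LinearMap.map_zero₂]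
  rw [← c.dim_lag hL, pow_mul, c.sq, Nat.mul_div_cancel_left _ two_pos]

theorem orth_fx {g : V ≃ₗ[F] V} (hg : IsV ω g) :
    ω.orthogonal (fx g) = LinearMap.range ((g : V →ₗ[F] V) - LinearMap.id) := by
  have := c.fdV
  have h1 := c.dim_orth (fx g)
  have h2 := ((g : V →ₗ[F] V) - LinearMap.id).finrank_range_add_finrank_ker
  refine (Submodule.eq_of_le_of_finrank_le ?_ (by rw [fx] at h1 ⊢; omega)).symm
  rintro _ ⟨v, rfl⟩ u hu
  refine (map_sub _ _ _).trans (sub_eq_zero.2 ?_)
  exact (congrArg (ω · (g v)) (mem_fx.1 hu)).symm.trans (hg u v)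

/-- the transvection `v ↦ v + a ω v u • u` -/
def tv (u : V) (a : F) : V ≃ₗ[F] V where
  toFun v := v + (a * ω v u) • u
  map_add' v v' := by simp only [map_add, LinearMap.add_apply, mul_add, add_smul]; abel
  map_smul' t v := by simp only [map_smul, LinearMap.smul_apply, smul_eq_mul, RingHom.id_apply, smul_add, smul_smul]; ring_nf
  invFun v := v + (-a * ω v u) • u
  left_inv v := by simp [c.alt]
  right_inv v := by simp [c.alt]

theorem tv_apply (u : V) (a : F) (v : V) : c.tv u a v = v + (a * ω v u) • u := rfl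

theorem tv_symm (u : V) (a : F) : (c.tv u a).symm = c.tv u (-a) := LinearEquiv.ext fun _ => rfl

theorem isV_tv (u : V) (a : F) : IsV ω (c.tv u a) := fun v v' => by
  simp only [tv_apply, map_add, map_smul, LinearMap.add_apply, LinearMap.smul_apply, smul_eq_mul, c.alt, c.skew u v']
  ring

/-- **the transvections generate the symplectic group** -/
theorem tv_ind {P : (V ≃ₗ[F] V) → Prop} (h1 : P 1) (h2 : ∀ u a g, a ≠ 0 → IsV ω g → P g → P (c.tv u a * g))
    {g : V ≃ₗ[F] V} (hg : IsV ω g) : P g := by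
  have := c.fdV
  have back : ∀ u a g, a ≠ 0 → IsV ω g → P (c.tv u a * g) → P g := fun u a g ha hg h => by
    have h3 := h2 u (-a) _ (neg_ne_zero.2 ha) ((c.isV_tv u a).mul hg) h
    rwa [← mul_assoc, ← c.tv_symm, show (c.tv u a).symm * c.tv u a = 1 from inv_mul_cancel _, one_mul] at h3
  have sub : ∀ v a g, IsV ω g → fx g ≤ fx (c.tv (v - g v) a * g) := fun v a g hg z hz => by
    rw [mem_fx] at hz ⊢
    rw [LinearEquiv.mul_apply, hz, tv_apply, map_sub, ← hg z v, hz, sub_self, mul_zero, zero_smul, add_zero]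
  induction hn : finrank F V - finrank F (fx g) using Nat.strong_induction_on generalizing g with
  | _ n ih =>
  have one : ∀ g v, IsV ω g → n ≥ finrank F V - finrank F (fx g) → ω (g v) v ≠ 0 → P g := fun g v hg h3 h4 => by
    refine back (v - g v) (ω (g v) v)⁻¹ g (inv_ne_zero h4) hg (ih _ ?_ ((c.isV_tv _ _).mul hg) rfl)
    have h5 := Submodule.finrank_lt_finrank_of_lt (lt_of_le_of_ne (sub v (ω (g v) v)⁻¹ g hg) fun h6 => h4 (by
      have h7 : v ∈ fx g := h6 ▸ mem_fx.2 (by
        rw [LinearEquiv.mul_apply, tv_apply, map_sub, c.alt, sub_zero, inv_mul_cancel₀ h4, one_smul, add_sub_cancel])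
      rw [mem_fx.1 h7, c.alt]))
    have h6 := Submodule.finrank_le (fx (c.tv (v - g v) (ω (g v) v)⁻¹ * g))
    omega
  by_cases h3 : ∃ v, ω (g v) v ≠ 0
  · obtain ⟨v, hv⟩ := h3
    exact one g v hg hn.le hv
  rcases eq_or_ne g 1 with rfl | h4
  · exact h1
  push Not at h3
  obtain ⟨z, hz⟩ := DFunLike.ne_iff.1 h4
  have h5 : z - g z ≠ 0 := sub_ne_zero.2 hz.symm
  obtain ⟨v, h6, h7⟩ := Wl.Cx.exists_both (φ := ω (z - g z)) (φ' := ω (z - g z) ∘ₗ g.toLinearMap)
    (fun h => h5 (c.ndV _ (LinearMap.congr_fun h))) fun h => h5 (c.ndV _ fun v => by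
      simpa using LinearMap.congr_fun h (g.symm v))
  refine back (z - g z) 1 g one_ne_zero hg (one _ v ((c.isV_tv _ _).mul hg) ?_ ?_)
  · have := Submodule.finrank_mono (sub z 1 g hg)
    omega
  · rw [LinearEquiv.mul_apply, tv_apply, map_add, LinearMap.add_apply, h3, zero_add, map_smul, LinearMap.smul_apply,
      one_mul, c.skew (g v)]
    exact mul_ne_zero (neg_ne_zero.2 h7) h6

end Cx

namespace Osc

variable {S : Type} [AddCommGroup S] [Module ℂ S] (O : Osc ψ ω Q γ S)

theorem hb' (w w' : W) : Q.polarBilin w w' = O.b w w' + O.b w' w := by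
  simp only [QuadraticMap.polarBilin_apply_apply, QuadraticMap.polar, ← O.hb, map_add, LinearMap.add_apply]
  ring

/-- the quadratic form which relates the two sections -/
noncomputable def κ : BilinForm F (V ⊗[F] W) := tm (LinearMap.flip O.ω₀) O.b

/-- the section which is invariant under `O W` -/
noncomputable def tau (x : V ⊗[F] W) : End ℂ S := ψ (-O.κ x x) • O.e x

/-- the operators of the pure tensors -/
noncomputable def D (v : V) (w : W) : End ℂ S := O.e (v ⊗ₜ w)

theorem e_eq (x : V ⊗[F] W) : O.e x = ψ (O.κ x x) • O.tau x := by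
  rw [tau, smul_smul, ← AddChar.map_add_eq_mul, add_neg_cancel, AddChar.map_zero_eq_one, one_smul]

theorem tau_mul (x y : V ⊗[F] W) : O.tau x * O.tau y = ψ (tm O.ω₀ Q.polarBilin x y) • O.tau (x + y) := by
  have h : tm O.ω₀ Q.polarBilin x y = tm ω O.b x y + O.κ x y + O.κ y x :=
    LinearMap.congr_fun₂ (bil_ext (b := tm ω O.b + O.κ + LinearMap.flip O.κ) fun v w v' w' => by
      simp only [κ, tm_tmul, LinearMap.add_apply, LinearMap.flip_apply, O.hω, O.hb']
      ring) x y
  rw [tau, tau, tau, smul_mul_smul_comm, O.e_mul, smul_smul, smul_smul, h]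
  simp only [← AddChar.map_add_eq_mul, map_add, LinearMap.add_apply]
  congr 2
  ring

theorem tau_zero : O.tau 0 = 1 := by simp [tau, O.e_zero]

theorem tr_tau {x : V ⊗[F] W} (hx : x ≠ 0) : trace ℂ S (O.tau x) = 0 := by rw [tau, map_smul, O.tr_e x hx, smul_zero]

include O in
theorem tr_one : trace ℂ S 1 = γ ^ finrank F V := by
  have := O.fin
  rw [LinearMap.trace_one, O.dim]

theorem κ_zero {E : Submodule F V} {T : Submodule F W} (hE : ItV ω E) (hT : ItW Q T) {x : V ⊗[F] W} (hx : x ∈ tp E T) :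
    O.κ x x = 0 :=
  bil_alt (fun v _ w hw => by simp [κ, O.hb, hT w hw]) (fun v hv w hw v' hv' w' hw' => by
    have h1 := (O.hω v v').symm.trans (hE v hv v' hv')
    have h2 := (O.hb' w w').symm.trans (hT.polar hw hw')
    simp only [κ, tm_tmul, LinearMap.flip_apply]
    linear_combination O.b w' w * h1 + O.ω₀ v' v * h2) hx

theorem tau_eq_e {E : Submodule F V} {T : Submodule F W} (hE : ItV ω E) (hT : ItW Q T) {x : V ⊗[F] W} (hx : x ∈ tp E T) :
    O.tau x = O.e x := by rw [tau, O.κ_zero hE hT hx, neg_zero, AddChar.map_zero_eq_one, one_smul]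

theorem tau_tmul (v : V) {w : W} (hw : Q w = 0) : O.tau (v ⊗ₜ w) = O.D v w := by simp [tau, κ, O.hb, hw, D]

theorem e_comm (x y : V ⊗[F] W) : O.e x * O.e y = ψ (tm ω Q.polarBilin x y) • (O.e y * O.e x) := by
  have h : tm ω Q.polarBilin x y = tm ω O.b x y - tm ω O.b y x :=
    LinearMap.congr_fun₂ (bil_ext (b := tm ω O.b - LinearMap.flip (tm ω O.b)) fun v w v' w' => by
      simp only [tm_tmul, LinearMap.sub_apply, LinearMap.flip_apply, O.hb', O.cx.skew v' v]
      ring) x y
  rw [O.e_mul, O.e_mul, smul_smul, ← AddChar.map_add_eq_mul, h, sub_add_cancel, add_comm]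

/-- `e` is a homomorphism on orthogonal subspaces of `V` -/
theorem e_add {E E' : Submodule F V} (h : ∀ v ∈ E, ∀ v' ∈ E', ω v v' = 0) {x y : V ⊗[F] W} (hx : x ∈ tp E ⊤)
    (hy : y ∈ tp E' ⊤) : O.e x * O.e y = O.e (x + y) := by
  rw [O.e_mul, bil_zero (fun v hv w _ v' hv' w' _ => by rw [tm_tmul, h v hv v' hv', zero_mul]) hx hy,
    AddChar.map_zero_eq_one, one_smul]

/-- `tau` is a homomorphism on orthogonal subspaces of `W` -/
theorem tau_add {T T' : Submodule F W} (h : ∀ w ∈ T, ∀ w' ∈ T', Q.polarBilin w w' = 0) {x y : V ⊗[F] W}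
    (hx : x ∈ tp ⊤ T) (hy : y ∈ tp ⊤ T') : O.tau x * O.tau y = O.tau (x + y) := by
  rw [O.tau_mul, bil_zero (fun v _ w hw v' _ w' hw' => by rw [tm_tmul, h w hw w' hw', mul_zero]) hx hy,
    AddChar.map_zero_eq_one, one_smul]

/-- the inverse of `e x` -/
noncomputable def ei (x : V ⊗[F] W) : End ℂ S := ψ (tm ω O.b x x) • O.e (-x)

theorem e_ei (x : V ⊗[F] W) : O.e x * O.ei x = 1 := by
  rw [ei, mul_smul_comm, O.e_mul, smul_smul, ← AddChar.map_add_eq_mul, map_neg, add_neg_cancel, add_neg_cancel,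
    AddChar.map_zero_eq_one, one_smul, O.e_zero]

theorem ei_e (x : V ⊗[F] W) : O.ei x * O.e x = 1 := by
  rw [ei, smul_mul_assoc, O.e_mul, smul_smul, ← AddChar.map_add_eq_mul, map_neg, LinearMap.neg_apply, add_neg_cancel,
    neg_add_cancel, AddChar.map_zero_eq_one, one_smul, O.e_zero]

theorem e_conj (x y : V ⊗[F] W) : O.e x * O.e y * O.ei x = ψ (tm ω Q.polarBilin x y) • O.e y := by
  rw [O.e_comm, smul_mul_assoc, mul_assoc, e_ei, mul_one]

theorem span_e : Submodule.span ℂ (Set.range O.e) = ⊤ := by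
  classical
  have := O.fin
  have := O.cx.fX
  have := Fintype.ofFinite (V ⊗[F] W)
  have h0 := pow_ne_zero (finrank F V) O.cx.γ_ne
  have h1 : LinearIndependent ℂ O.e := Fintype.linearIndependent_iff.2 fun g hg y => by
    have h2 := congrArg (fun a => trace ℂ S (O.ei y * a)) hg
    simp only [Finset.mul_sum, map_sum, mul_zero, map_zero, mul_smul_comm, map_smul] at h2
    rw [Finset.sum_eq_single y (fun x _ hx => ?_) (by simp), ei_e, O.tr_one, smul_eq_mul] at h2
    · exact (mul_eq_zero.1 h2).resolve_right h0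
    · rw [ei, smul_mul_assoc, O.e_mul, map_smul, map_smul, O.tr_e _ (by rwa [Ne, neg_add_eq_zero, eq_comm])]
      simp
  refine h1.span_eq_top_of_card_eq_finrank' (Nat.cast_injective (R := ℂ) ?_)
  rw [← Nat.card_eq_fintype_card, O.cx.card_X, Module.finrank_linearMap, Nat.cast_mul, O.dim, two_mul, pow_add]

/-- **the average of the conjugates** -/
theorem sum_conj (a : End ℂ S) :
    ∑ᶠ x, O.e x * a * O.ei x = (γ ^ finrank F V * trace ℂ S a) • (1 : End ℂ S) := by
  have := O.cx.fX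
  have := Fintype.ofFinite (V ⊗[F] W)
  rw [finsum_eq_sum_of_fintype]
  have ha : a ∈ Submodule.span ℂ (Set.range O.e) := O.span_e ▸ trivial
  induction ha using Submodule.span_induction with
  | mem a ha =>
    obtain ⟨y, rfl⟩ := ha
    simp only [e_conj, ← Finset.sum_smul]
    rcases eq_or_ne y 0 with rfl | hy
    · simp only [map_zero, AddChar.map_zero_eq_one, Finset.sum_const, Finset.card_univ, nsmul_eq_mul, mul_one, O.e_zero,
        O.tr_one]
      rw [← Nat.card_eq_fintype_card, O.cx.card_X, two_mul, pow_add]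
    · obtain ⟨z, hz⟩ := O.cx.nd hy
      have h1 := AddChar.sum_eq_zero_iff_ne_zero (ψ := ψ.compAddMonoidHom
        (LinearMap.flip (tm ω Q.polarBilin) y).toAddMonoidHom).2 (AddChar.ne_zero_iff.2 ⟨z, hz⟩)
      rw [O.tr_e y hy, mul_zero, zero_smul]
      exact smul_eq_zero_of_left h1 _
  | zero => simp
  | add a b _ _ ha hb => simp only [mul_add, add_mul, Finset.sum_add_distrib, ha, hb, map_add, add_smul]
  | smul c a _ ha =>
    simp only [mul_smul_comm, smul_mul_assoc, ← Finset.smul_sum, ha, map_smul, smul_smul, smul_eq_mul, mul_left_comm]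

/-- **Schur's lemma** -/
theorem schur {a : End ℂ S} (h : ∀ x, a * O.e x = O.e x * a) : a = (trace ℂ S a / γ ^ finrank F V) • (1 : End ℂ S) := by
  have := O.cx.fX
  have := Fintype.ofFinite (V ⊗[F] W)
  have h0 := pow_ne_zero (finrank F V) O.cx.γ_ne
  have h1 := O.sum_conj a
  simp only [← h, mul_assoc, e_ei, mul_one, finsum_eq_sum_of_fintype, Finset.sum_const, Finset.card_univ] at h1
  rw [← Nat.cast_smul_eq_nsmul ℂ, ← Nat.card_eq_fintype_card, O.cx.card_X, two_mul, pow_add] at h1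
  refine smul_right_injective _ (mul_ne_zero h0 h0) (h1.trans ?_)
  simp only [smul_smul]
  congr 1
  field_simp

/-- it is enough to look at the pure tensors -/
theorem comm_of_D {a : End ℂ S} (h : ∀ v w, a * O.D v w = O.D v w * a) (x : V ⊗[F] W) : a * O.e x = O.e x * a := by
  induction x using TensorProduct.induction_on with
  | zero => rw [O.e_zero, mul_one, one_mul]
  | tmul v w => exact h v w
  | add x y hx hy =>
    refine smul_right_injective _ (psi_ne ψ (tm ω O.b x y)) ?_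
    simp only []
    rw [← mul_smul_comm, ← smul_mul_assoc, ← O.e_mul, ← mul_assoc, hx, mul_assoc, hy, mul_assoc]

/-- the projection to the vectors fixed by `E ⊗ W` -/
noncomputable def pV (E : Submodule F V) : End ℂ S := av O.e (tp E ⊤)

/-- the projection to the vectors fixed by `V ⊗ T` -/
noncomputable def pW (T : Submodule F W) : End ℂ S := av O.tau (tp ⊤ T)

theorem D_comm (v v' : V) (w w' : W) :
    O.D v w * O.D v' w' = ψ (ω v v' * Q.polarBilin w w') • (O.D v' w' * O.D v w) := by rw [D, D, O.e_comm, tm_tmul]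

theorem D_addV (v v' : V) (w : W) : O.D v w * O.D v' w = ψ (ω v v' * Q w) • O.D (v + v') w := by
  rw [D, D, D, O.e_mul, tm_tmul, O.hb, add_tmul]

theorem D_addW (v : V) (w w' : W) : O.D v w * O.D v w' = O.D v (w + w') := by
  rw [D, D, D, O.e_mul, tm_tmul, O.cx.alt, zero_mul, AddChar.map_zero_eq_one, one_smul, tmul_add]

theorem D_smul (t : F) (v : V) (w : W) : O.D (t • v) w = O.D v (t • w) := by rw [D, D, smul_tmul]

theorem D_zero (v : V) : O.D v 0 = 1 := by rw [D, tmul_zero, O.e_zero]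

theorem zero_D (w : W) : O.D 0 w = 1 := by rw [D, zero_tmul, O.e_zero]

end Osc

/-- **existence** -/
theorem Cx.exists_osc (c : Cx ψ ω Q γ) :
    ∃ U : Submodule ℂ (V ⊗[F] W → ℂ), Nonempty (Osc ψ ω Q γ U) := by
  have := c.fF
  have := c.fX
  have := c.fdV
  have := c.fdW
  obtain ⟨ω₀, hω⟩ := exists_half ω c.alt
  obtain ⟨b, hb⟩ := LinearMap.BilinMap.toQuadraticMap_surjective Q
  replace hb : ∀ w, b w w = Q w := fun w => congrArg (· w) hb
  let β : V ⊗[F] W →+ V ⊗[F] W →+ F := AddMonoidHom.mk' (fun x => (tm ω b x).toAddMonoidHom) fun x y => by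
    rw [map_add]
    rfl
  obtain ⟨U, R, h⟩ := H603.Weil.exists_sv β ψ
  have h1 : ∀ x : V ⊗[F] W, x ≠ 0 → ∃ y, ψ (β y x - β x y) ≠ 1 := fun x hx => by
    obtain ⟨y, hy⟩ := c.nd hx
    refine ⟨y, fun h2 => hy (Eq.trans (congrArg ψ ?_) h2)⟩
    exact LinearMap.congr_fun₂ (bil_ext (a := tm ω Q.polarBilin) (b := tm ω b - LinearMap.flip (tm ω b)) fun v w v' w' => by
      simp only [tm_tmul, LinearMap.sub_apply, LinearMap.flip_apply, c.skew v' v, QuadraticMap.polarBilin_apply_apply,
        QuadraticMap.polar, ← hb, map_add, LinearMap.add_apply]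
      ring) y x
  refine ⟨U, ⟨⟨c, inferInstance, ω₀, hω, b, hb, fun x => R (H603.Weil.Hs.d β x), fun x y => ?_, map_one R,
    fun x hx => h.trace_eq_zero h1 hx, ?_⟩⟩⟩
  · rw [← map_mul, ← h.rep_z_mul]
    congr 1
    ext <;> simp [β]
  · obtain ⟨L, -, hL⟩ := c.exists_lag (E := ⊥) fun v hv _ _ => by rw [(Submodule.mem_bot F).1 hv, LinearMap.map_zero₂]
    have h2 := h.finrank_sq h1
    have h3 := c.card_X
    rw [← c.dim_lag hL, pow_mul, pow_mul, c.sq] at *
    rw [← h2] at h3
    exact_mod_cast Nat.pow_left_injective two_ne_zero (show _ ^ 2 = (Nat.card W ^ finrank F L) ^ 2 by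
      rw [← pow_mul, mul_comm _ 2, pow_mul]
      exact_mod_cast h3)

end Cfsg.Agent.PQ.Wo
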